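import Groth.Agent.Dual22Lib.GammaZ
import Groth.Agent.Dual22Lib.BCMain
import Groth.Agent.HTor16.ProjPull

/-!
# Exact functors and sections with support
-/

set_option autoImplicit false
set_option backward.isDefEq.respectTransparency false
set_option linter.style.haveILetI false
set_option synthInstance.maxHeartbeats 100000

universe u

open CategoryTheory CategoryTheory.Limits CategoryTheory.Pretriangulated AlgebraicGeometry
open Groth.Agent.DCat Groth.Agent.Dual22Lib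

attribute [local instance] HasDerivedCategory.standard

namespace Groth.Agent.CxOX16

variable {X Y T : Scheme.{u}}

/-- An exact functor sending the localization triangle to a localization triangle commutes with
sections with support. -/
theorem factors_isIso {U : Y.Opens} [CxOX.HasRgammaZ U.ι] (j : T ⟶ X) [IsOpenImmersion j]
    [CxOX.HasRgammaZ j] (Φ : DCoh.D Y ⥤ DCoh.D X) (hΦ : WeakExact.TriExact Φ)
    [DCoh.HasRpush U.ι] [DCoh.HasRpush j]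
    (K : DCoh.D Y) (hA : AdjGeom.killed j (Φ.obj ((CxOX.RgammaZ U.ι).obj K)))
    (hC : ∃ L : DCoh.D T, Nonempty (Φ.obj ((DCoh.Rpush U.ι).obj ((DCoh.restrictD U.ι).obj K)) ≅
      (DCoh.Rpush j).obj L)) :
    (∃ β : Φ.obj ((CxOX.RgammaZ U.ι).obj K) ⟶ (CxOX.RgammaZ j).obj (Φ.obj K),
        β ≫ (CxOX.RgammaZToId j).app (Φ.obj K) = Φ.map ((CxOX.RgammaZToId U.ι).app K)) ∧
    ∀ β : Φ.obj ((CxOX.RgammaZ U.ι).obj K) ⟶ (CxOX.RgammaZ j).obj (Φ.obj K),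
        β ≫ (CxOX.RgammaZToId j).app (Φ.obj K) = Φ.map ((CxOX.RgammaZToId U.ι).app K) → IsIso β := by
  obtain ⟨β₀, hβ₀⟩ := (GammaZ.bijective_comp j hA (Φ.obj K)).2 (Φ.map ((CxOX.RgammaZToId U.ι).app K))
  refine ⟨⟨β₀, hβ₀⟩, fun β hβ => ?_⟩
  obtain ⟨b, c, hT, -⟩ := GammaZ.exists_triangle U.ι K
  obtain ⟨δ, hT'⟩ := hΦ _ hT
  obtain ⟨L, ⟨e⟩⟩ := hC
  have h0 : ∀ {N : DCoh.D X}, AdjGeom.killed j N →
      ∀ g : N ⟶ Φ.obj ((DCoh.Rpush U.ι).obj ((DCoh.restrictD U.ι).obj K)), g = 0 := fun hN g =>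
    (cancel_mono e.hom).1 ((GammaZ.eq_zero_of_killed j hN (g ≫ e.hom)).trans zero_comp.symm)
  have hN : AdjGeom.killed j ((CxOX.RgammaZ j).obj (Φ.obj K)) := GammaZ.killed_RgammaZ j _
  obtain ⟨γ, hγ⟩ := Triangle.coyoneda_exact₂ _ hT' ((CxOX.RgammaZToId j).app (Φ.obj K)) (h0 hN _)
  change (CxOX.RgammaZToId j).app (Φ.obj K) = γ ≫ Φ.map ((CxOX.RgammaZToId U.ι).app K) at hγ
  refine ⟨γ, ?_, ?_⟩
  · -- left inverse: two factorisations through the first map of the triangle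
    refine sub_eq_zero.1 ?_
    have h : (β ≫ γ - 𝟙 _) ≫ Φ.map ((CxOX.RgammaZToId U.ι).app K) = 0 := by
      rw [Preadditive.sub_comp, Category.assoc, ← hγ, hβ, Category.id_comp, sub_self]
    obtain ⟨y, hy⟩ := Triangle.coyoneda_exact₂ _ (inv_rot_of_distTriang _ hT') _ h
    have hy0 : y = 0 := by
      apply (shiftFunctor (DCoh.D X) (1 : ℤ)).map_injective
      rw [Functor.map_zero, ← cancel_mono ((shiftFunctorCompIsoId (DCoh.D X) (-1) (1 : ℤ) (by omega)).hom.app _),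
        zero_comp]
      exact h0 ((AdjGeom.killed j).le_shift (1 : ℤ) _ hA) _
    rw [hy, hy0, zero_comp]
  · apply (GammaZ.bijective_comp j hN (Φ.obj K)).1
    show (γ ≫ β) ≫ _ = 𝟙 _ ≫ _
    rw [Category.assoc, hβ, ← hγ, Category.id_comp]

variable [IsNoetherian X] [IsNoetherian Y]

/-- `Lf^* RΓ_Z ≅ RΓ_{Z'} Lf^*` for flat `f`. -/
theorem Lpull_RgammaZ (f : X ⟶ Y) [Flat f] (U : Y.Opens) [CxOX.HasRgammaZ U.ι]
    [CxOX.HasRgammaZ (f ⁻¹ᵁ U).ι] [DCoh.HasLpull f] (K : DCoh.D Y) (hK : DCoh.IsQCohD K) :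
    (∃ β : (DCoh.Lpull f).obj ((CxOX.RgammaZ U.ι).obj K) ⟶ (CxOX.RgammaZ (f ⁻¹ᵁ U).ι).obj ((DCoh.Lpull f).obj K),
        β ≫ (CxOX.RgammaZToId (f ⁻¹ᵁ U).ι).app ((DCoh.Lpull f).obj K) =
          (DCoh.Lpull f).map ((CxOX.RgammaZToId U.ι).app K)) ∧
    ∀ β : (DCoh.Lpull f).obj ((CxOX.RgammaZ U.ι).obj K) ⟶ (CxOX.RgammaZ (f ⁻¹ᵁ U).ι).obj ((DCoh.Lpull f).obj K),
        β ≫ (CxOX.RgammaZToId (f ⁻¹ᵁ U).ι).app ((DCoh.Lpull f).obj K) =
          (DCoh.Lpull f).map ((CxOX.RgammaZToId U.ι).app K) → IsIso β := by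
  haveI := hasRpush U.ι
  haveI := hasRpush (f ⁻¹ᵁ U).ι
  haveI := hasRpush f
  haveI := hasRpush (f ∣_ U)
  haveI := hasLpull (f ∣_ U)
  haveI : QuasiCompact U.ι := inferInstance
  refine factors_isIso (f ⁻¹ᵁ U).ι (DCoh.Lpull f) (TenLocal.triExact_Lpull f) K ?_ ?_
  · obtain ⟨a⟩ := TenLocal.nonempty_rd_Lpull f U ((CxOX.RgammaZ U.ι).obj K)
    exact ((TenLocal.triExact_Lpull (f ∣_ U)).map_isZero (GammaZ.killed_RgammaZ U.ι K)).of_iso a
  · obtain ⟨ag⟩ := nonempty_pullPushAdj f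
    obtain ⟨ag'⟩ := nonempty_pullPushAdj (f ∣_ U)
    obtain ⟨e⟩ := BCSquare.exists_e (isPullback_morphismRestrict f U).w
    haveI := BCMain.good_of_flat U.ι f (isPullback_morphismRestrict f U) (Or.inr inferInstance)
      inferInstance inferInstance inferInstance inferInstance inferInstance inferInstance
      ag ag' e ((DCoh.restrictD U.ι).obj K) (AdjGeom.isQCohD_restrictD U.ι hK)
    exact ⟨_, ⟨asIso ((BCAlg.bc ag ag' e).app ((DCoh.restrictD U.ι).obj K))⟩⟩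

/-- `RΓ_Z F ⊗^L E ≅ RΓ_Z (F ⊗^L E)`. -/
theorem LTensor_RgammaZ (U : X.Opens) [CxOX.HasRgammaZ U.ι] (F : DCoh.D X) (hF : DCoh.IsQCohD F)
    (E : CochainComplex X.Modules ℤ) (hE : DCoh.IsQCohD (DCoh.toD X E)) [DCoh.HasLTensorCx E] :
    (∃ φ : (DCoh.LTensorCx E).obj ((CxOX.RgammaZ U.ι).obj F) ⟶ (CxOX.RgammaZ U.ι).obj ((DCoh.LTensorCx E).obj F),
        φ ≫ (CxOX.RgammaZToId U.ι).app ((DCoh.LTensorCx E).obj F) =
          (DCoh.LTensorCx E).map ((CxOX.RgammaZToId U.ι).app F)) ∧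
    ∀ φ : (DCoh.LTensorCx E).obj ((CxOX.RgammaZ U.ι).obj F) ⟶ (CxOX.RgammaZ U.ι).obj ((DCoh.LTensorCx E).obj F),
        φ ≫ (CxOX.RgammaZToId U.ι).app ((DCoh.LTensorCx E).obj F) =
          (DCoh.LTensorCx E).map ((CxOX.RgammaZToId U.ι).app F) → IsIso φ := by
  haveI := hasRpush U.ι
  haveI := hasLpull U.ι
  refine factors_isIso U.ι (DCoh.LTensorCx E) (TenLocal.triExact_LTensor E) F ?_ ?_
  · exact TenLocal.isZero_rd_LTensor U.ι E (GammaZ.killed_RgammaZ U.ι F)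
  · obtain ⟨N, hN, ⟨eN⟩⟩ := PullPerf.exists_kflat_rep (DerivedCategory.Q.obj E)
    haveI := LTensorSheaf.hasLTensorCx N
    haveI := LTensorSheaf.hasLTensorCx (((Scheme.Modules.pullback U.ι).mapHomologicalComplex (ComplexShape.up ℤ)).obj N)
    obtain ⟨a⟩ := TensorCongr.nonempty_congr (E := E) (E' := N) eN.symm
    have hNq : DCoh.IsQCohD (DerivedCategory.Q.obj N) := DQCoh.isQCohD_of_iso eN.symm hE
    obtain ⟨p⟩ := HTor16.nonempty_projection_pull U.ι ((DCoh.restrictD U.ι).obj F)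
      (AdjGeom.isQCohD_restrictD U.ι hF) N hN hNq
    exact ⟨_, ⟨a.app _ ≪≫ p⟩⟩

end Groth.Agent.CxOX16
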