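import Groth.Agent.Dual22Lib.PerfGen
import Groth.Agent.DQCoh.PerfectTor
import Groth.Agent.DCat.PCTriangle
import Groth.Agent.CAlgH.PicPunctCriteria
import Groth.Agent.DCat.PullPush

/-!
# Isomorphisms detected by `Rf_* RHom(F, -)`
-/

set_option autoImplicit false
set_option backward.isDefEq.respectTransparency false
set_option linter.style.haveILetI false
set_option synthInstance.maxHeartbeats 100000

universe u

open CategoryTheory CategoryTheory.Limits CategoryTheory.Pretriangulated AlgebraicGeometry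
open Groth.Agent.DCat Groth.Agent.Dual22Lib

attribute [local instance] HasDerivedCategory.standard

namespace Groth.Agent.CxOX16

variable {X Y : Scheme.{u}} (f : X ⟶ Y) [DCoh.HasRpush f]

/-- If `Rf_* RHom(F, φ)` is invertible then composing with `φ` is bijective on maps out of `F`. -/
theorem bijective_comp_of_isIso (F : CochainComplex X.Modules ℤ) [DCoh.HasLTensorCx F] [DCoh.HasRSheafHom F]
    {A₁ A₂ : DCoh.D X} (φ : A₁ ⟶ A₂) (h : IsIso ((DCoh.Rpush f).map ((DCoh.RSheafHom F).map φ))) :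
    Function.Bijective fun y : DerivedCategory.Q.obj F ⟶ A₁ => y ≫ φ := by
  haveI := hasLpull f
  obtain ⟨a⟩ := nonempty_pullPushAdj f
  let S := (HomologicalComplex.single Y.Modules (ComplexShape.up ℤ) 0).obj
    ((Coherent.freeModOn Y).obj ⊤)
  let O' := (HomologicalComplex.single X.Modules (ComplexShape.up ℤ) 0).obj (Coh.structureModule X)
  obtain ⟨p⟩ := CAlgH.PicPunct.nonempty_pullback_unit f
  let e₀ : (DCoh.Lpull f).obj (DerivedCategory.Q.obj S) ≅ DerivedCategory.Q.obj O' :=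
    PullPerf.lpullIso f (DQCoh.isKFlatFor_single_top Y) ≪≫
      DerivedCategory.Q.mapIso ((HomologicalComplex.singleMapHomologicalComplex
        (Scheme.Modules.pullback f) (ComplexShape.up ℤ) 0).app _ ≪≫
        (HomologicalComplex.single _ _ 0).mapIso
          ((Scheme.Modules.pullback f).mapIso (DQCoh.topStructIso Y) ≪≫ p))
  have hO : IsKFlatFor (shT X) O' :=
    (DQCoh.isKFlatFor_single_top X).of_iso ((HomologicalComplex.single _ _ 0).mapIso (DQCoh.topStructIso X))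
  obtain ⟨t⟩ := DQCoh.exists_single_tot_iso (shT X) (Coh.structureModule X) F
  let e : (DCoh.LTensorCx F).obj ((DCoh.Lpull f).obj (DerivedCategory.Q.obj S)) ≅ DerivedCategory.Q.obj F :=
    (DCoh.LTensorCx F).mapIso e₀ ≪≫ LTensorSheaf.ltensorCxIso F hO ≪≫
      DerivedCategory.Q.mapIso (t.symm ≪≫ (NatIso.mapHomologicalComplex (DQCoh.unitNatIso X) _).app F ≪≫
        (Functor.mapHomologicalComplexIdIso X.Modules (ComplexShape.up ℤ)).app F)
  let E₁ := (a.comp (DCoh.RSheafHomAdj F)).homEquiv (DerivedCategory.Q.obj S)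
  have hE : ∀ z : (DCoh.LTensorCx F).obj ((DCoh.Lpull f).obj (DerivedCategory.Q.obj S)) ⟶ A₁,
      E₁ A₂ (z ≫ φ) = E₁ A₁ z ≫ (DCoh.Rpush f).map ((DCoh.RSheafHom F).map φ) := fun z =>
    (a.comp (DCoh.RSheafHomAdj F)).homEquiv_naturality_right z φ
  refine ⟨fun y y' hy => ?_, fun z => ?_⟩
  · refine (cancel_epi e.hom).1 ((E₁ A₁).injective ((cancel_mono
      ((DCoh.Rpush f).map ((DCoh.RSheafHom F).map φ))).1 ?_))
    rw [← hE, ← hE, Category.assoc, Category.assoc]
    exact congrArg (fun t => E₁ A₂ (e.hom ≫ t)) hy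
  · refine ⟨e.inv ≫ (E₁ A₁).symm (E₁ A₂ (e.hom ≫ z) ≫ inv ((DCoh.Rpush f).map ((DCoh.RSheafHom F).map φ))), ?_⟩
    refine (cancel_epi e.hom).1 ((E₁ A₂).injective ?_)
    show E₁ A₂ (e.hom ≫ (e.inv ≫ _) ≫ φ) = _
    rw [Category.assoc, Iso.hom_inv_id_assoc, hE, Equiv.apply_symm_apply, Category.assoc, IsIso.inv_hom_id,
      Category.comp_id]

/-- Isomorphisms between objects with quasi-coherent cohomology are detected by pseudo-coherent complexes. -/
theorem isIso_of_isIso_Rpush_RHom [CompactSpace X] [QuasiSeparatedSpace X]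
    [hT : ∀ F : CochainComplex X.Modules ℤ, DCoh.HasLTensorCx F]
    [hR : ∀ F : CochainComplex X.Modules ℤ, DCoh.HasRSheafHom F]
    {A₁ A₂ : DCoh.D X} (h₁ : DCoh.IsQCohD A₁) (h₂ : DCoh.IsQCohD A₂) (φ : A₁ ⟶ A₂)
    (h : ∀ F : CochainComplex X.Modules ℤ, (∀ m : ℤ, DCoh.IsPseudoCoherentD m (DCoh.toD X F)) →
      IsIso ((DCoh.Rpush f).map ((DCoh.RSheafHom F).map φ))) :
    IsIso φ := by
  obtain ⟨P, hP, -, hdet⟩ := PerfGen.gen (X := X) ⊥ (by simp)
  have hb : ∀ (P' : DCoh.D X), DCoh.IsPerfect P' → Function.Bijective fun y : P' ⟶ A₁ => y ≫ φ := by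
    intro P' hP'
    let F := DerivedCategory.Q.objPreimage P'
    let e : DerivedCategory.Q.obj F ≅ P' := DerivedCategory.Q.objObjPreimageIso P'
    have hF : DCoh.IsPerfect (DerivedCategory.Q.obj F) := PCTriangle.perfect_iso e.symm hP'
    have hb := bijective_comp_of_isIso f F φ (h F fun m => DQCoh.psc_of_perfect hF m)
    refine ⟨fun y y' hy => (cancel_epi e.hom).1 (hb.1 (by simpa using congrArg (e.hom ≫ ·) hy)), fun z => ?_⟩
    obtain ⟨y, hy⟩ := hb.2 (e.hom ≫ z)
    exact ⟨e.inv ≫ y, (Category.assoc _ _ _).trans ((congrArg (e.inv ≫ ·) hy).trans (e.inv_hom_id_assoc z))⟩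
  obtain ⟨C, v, w, hT'⟩ := distinguished_cocone_triangle φ
  refine (Triangle.isZero₃_iff_isIso₁ _ hT').1 (hdet C (DQCoh.isQCohD_obj₃ hT' h₁ h₂) ?_ fun n g => ?_)
  · exact (AdjGeom.killed_iff _ _).2 fun i x hx => by simp at hx
  -- `g : P⟦n⟧ ⟶ C` dies on the connecting map
  have hw : g ≫ w = 0 := by
    let p := (shiftFunctorAdd' (DCoh.D X) (n - 1) 1 n (by omega)).app P
    obtain ⟨z, hz⟩ := (shiftFunctor (DCoh.D X) (1 : ℤ)).map_surjective (p.inv ≫ g ≫ w)
    have h0 : w ≫ φ⟦(1 : ℤ)⟧' = 0 := comp_distTriang_mor_zero₃₁ _ hT'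
    have hz0 : z ≫ φ = 0 := by
      apply (shiftFunctor (DCoh.D X) (1 : ℤ)).map_injective
      rw [Functor.map_comp, hz, Functor.map_zero, Category.assoc, Category.assoc, h0, comp_zero, comp_zero]
    have : z = 0 := (hb _ (PCTriangle.perfect_shift hP (n - 1))).1 (by simpa using hz0)
    rw [this, Functor.map_zero] at hz
    exact (cancel_epi p.inv).1 (hz.symm.trans comp_zero.symm)
  obtain ⟨g', rfl⟩ := Triangle.coyoneda_exact₃ _ hT' g hw
  obtain ⟨g'', rfl⟩ := (hb _ (PCTriangle.perfect_shift hP n)).2 g'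
  exact (Category.assoc _ _ _).trans ((congrArg (g'' ≫ ·) (comp_distTriang_mor_zero₁₂ _ hT')).trans comp_zero)

end Groth.Agent.CxOX16
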